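import Cfsg.Agent.H658.Reg.DegTool

/-!
# A degree from a rank 3 action (helper300)
-/

set_option autoImplicit false

namespace Cfsg.Agent.H300.PSq.RThree

open Cfsg Cfsg.Agent.H690.Spor.RankThree Cfsg.Agent.H658.Reg

universe u v

/-- rank 3 actions: all possible pairs of degrees have a member in `L` -/
theorem exists_deg {G : Type u} {X : Type v} [Group G] [MulAction G X] [Finite G] {R : X → X → Prop} {k l : ℕ}
    (h : R3 G X R k l) (L : List ℕ) (hc : chk k l L = true) :
    ∃ d ∈ L, ∃ χ : IrrCharacter G, charDegree (χ : G → ℂ) = d := by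
  classical
  have hL : ∀ f ≤ (k + l) / 2, (1 + k + l) * k * l % (f * (k + l - f)) = 0 →
      Nat.sqrt ((1 + k + l) * k * l / (f * (k + l - f))) * Nat.sqrt ((1 + k + l) * k * l / (f * (k + l - f))) =
        (1 + k + l) * k * l / (f * (k + l - f)) ∨ f + f = k + l → f ∈ L ∨ k + l - f ∈ L := by
    intro f hf h1 h2
    have h3 := List.all_eq_true.1 hc f (List.mem_range.2 (by omega))
    simp only [Bool.or_eq_true, Bool.not_eq_true', beq_eq_false_iff_ne, Bool.or_eq_false_iff,
      List.contains_iff_mem] at h3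
    rcases h3 with ((h3 | h3) | h3) | h3
    · exact absurd h1 h3
    · exfalso
      rcases h2 with h2 | h2
      · exact h3.1 h2
      · exact h3.2 h2
    · exact Or.inl h3
    · exact Or.inr h3
  have hX : Finite X := by
    apply Nat.finite_of_card_ne_zero
    rw [h.cardn]
    omega
  have := Fintype.ofFinite X
  obtain ⟨χ₁, χ₂, f, g, D, h1, h2, -, h3, h4, h5⟩ := h.frame
  have d1 : charDegree (χ₁ : G → ℂ) = f := Cfsg.Agent.H670.PSing.charDegree_eq_of h1
  have d2 : charDegree (χ₂ : G → ℂ) = g := Cfsg.Agent.H670.PSing.charDegree_eq_of h2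
  have hN : 0 < (1 + k + l) * k * l := by
    have := h.k0
    have := h.l0
    positivity
  have key : ∀ f g : ℕ, f + g = k + l → f * g * D = (1 + k + l) * k * l → (f ≠ g → IsSquare D) → f ≤ g →
      f ∈ L ∨ g ∈ L := by
    intro f g h3 h4 h5 hle
    have hg : g = k + l - f := by omega
    have hfg : 0 < f * g := by
      rcases Nat.eq_zero_or_pos (f * g) with h | h
      · rw [h, zero_mul] at h4
        omega
      · exact h
    have hdiv : (1 + k + l) * k * l / (f * g) = D := by
      rw [← h4, Nat.mul_div_cancel_left _ hfg]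
    rw [hg] at hdiv h4 ⊢
    refine hL f (by omega) ?_ ?_
    · rw [← h4]
      exact Nat.mul_mod_right _ _
    · rw [hdiv]
      by_cases hne : f = g
      · right; omega
      · left
        obtain ⟨s, rfl⟩ := h5 hne
        rw [Nat.sqrt_eq]
  rcases le_total f g with hle | hle
  · rcases key f g h3 h4 h5 hle with h | h
    · exact ⟨f, h, χ₁, d1⟩
    · exact ⟨g, h, χ₂, d2⟩
  · rcases key g f (by omega) (by rw [mul_comm g f]; exact h4) (fun h => h5 h.symm) hle with h | h
    · exact ⟨g, h, χ₂, d2⟩
    · exact ⟨f, h, χ₁, d1⟩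

end Cfsg.Agent.H300.PSq.RThree
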