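import Cfsg.Agent.H870.IMFiTwentyThree
import Cfsg.Agent.H710.PSq.Syl
import Cfsg.Agent.H710.PSq.OutSpor
import Cfsg.Agent.H696.PSq.DefsE
import Cfsg.Agent.H941.Sq.Mathieu
import Cfsg.Agent.H300.PSq.RThree

/-!
# S4844: the row `Fi₂₃` (helper300)

* `p = 3` : the degree `30888 = 2³ 3³ 11 13` of the rank 3 action on the transpositions;
* `p = 5` : `EvenC 5`, the centralizers of the elements of order 5 have the quotient `S₇` with 126 Sylow 5-subgroups.
-/

set_option autoImplicit false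

namespace Cfsg.Agent.H300.PSq.FiTwentyThree

open Subgroup Cfsg Cfsg.Agent.H33

universe u

theorem card_normalizer_dvd {G : Type*} [Group G] [Finite G] {p : ℕ} (hp : p.Prime) {c : G} (hc : orderOf c = p) :
    Nat.card (normalizer ((zpowers c : Subgroup G) : Set G)) ∣ Nat.card (centralizer ({c} : Set G)) * (p - 1) := by
  have hcyc : IsCyclic (zpowers c) := inferInstance
  have h1 : Nat.card (MulAut (zpowers c)) = p - 1 := by
    rw [IsCyclic.card_mulAut, Nat.card_zpowers, hc, Nat.totient_prime hp]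
  have hfin : Finite (MulAut (zpowers c)) := Nat.finite_of_card_ne_zero (by rw [h1]; have := hp.two_le; omega)
  set f := (zpowers c).normalizerMonoidHom with hf
  have h2 : Nat.card (normalizer ((zpowers c : Subgroup G) : Set G)) = Nat.card f.ker * Nat.card f.range := by
    rw [← Subgroup.index_ker, Subgroup.card_mul_index]
  rw [h2]
  refine Nat.mul_dvd_mul ?_ (h1 ▸ Subgroup.card_subgroup_dvd_card _)
  have h3 : f.ker.map (normalizer ((zpowers c : Subgroup G) : Set G)).subtype ≤ centralizer ({c} : Set G) := by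
    rintro _ ⟨g, hg, rfl⟩
    rw [SetLike.mem_coe, MonoidHom.mem_ker] at hg
    rw [mem_centralizer_singleton_iff]
    have h4 := congrArg (fun α : MulAut (zpowers c) => ((α ⟨c, mem_zpowers c⟩ : zpowers c) : G)) hg
    have h5 : (g : G) * c * (g : G)⁻¹ = c := h4
    exact mul_inv_eq_iff_eq_mul.1 h5
  rw [← Subgroup.card_map_of_injective (Subgroup.subtype_injective _)]
  exact Subgroup.card_dvd_of_le h3

theorem card_cent_five_perm {c : Equiv.Perm (Fin 7)} (hc : orderOf c = 5) :
    Nat.card (centralizer ({c} : Set (Equiv.Perm (Fin 7)))) = 10 := by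
  obtain ⟨n, hn⟩ := Equiv.Perm.cycleType_prime_order (σ := c) (by rw [hc]; norm_num)
  have h1 : c.cycleType.sum ≤ 7 := (Equiv.Perm.sum_cycleType_le c).trans (by simp)
  rw [hn, hc, Multiset.sum_replicate, smul_eq_mul] at h1
  have h2 : n = 0 := by omega
  subst h2
  rw [hc] at hn
  rw [Equiv.Perm.nat_card_centralizer, hn]
  decide

theorem even_five_perm : Even (Nat.card (Sylow 5 (Equiv.Perm (Fin 7)))) := by
  have h5 : Fact (Nat.Prime 5) := ⟨by norm_num⟩
  have hcard : Nat.card (Equiv.Perm (Fin 7)) = 5040 := by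
    rw [Nat.card_perm]
    simp [Nat.factorial]
  obtain ⟨Q⟩ : Nonempty (Sylow 5 (Equiv.Perm (Fin 7))) := inferInstance
  have hQ : Nat.card Q = 5 := by
    rw [Q.card_eq_multiplicity, hcard]
    have : (5040 : ℕ).factorization 5 = 1 := Cfsg.Agent.H870.IMFi23.fac (n := 1) (m := 1008) (by norm_num) (by norm_num)
      (by norm_num)
    rw [this, pow_one]
  obtain ⟨c, hc⟩ := exists_prime_orderOf_dvd_card' (G := Q) 5 (by rw [hQ])
  have hc' : orderOf (c : Equiv.Perm (Fin 7)) = 5 := by rw [Subgroup.orderOf_coe, hc]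
  have hz : (zpowers (c : Equiv.Perm (Fin 7)) : Subgroup _) = Q := by
    refine Subgroup.eq_of_le_of_card_ge ?_ ?_
    · rw [zpowers_le]; exact c.2
    · rw [Nat.card_zpowers, hc']; exact hQ.le
  have h1 := card_normalizer_dvd (p := 5) (by norm_num) hc'
  rw [card_cent_five_perm hc', hz] at h1
  have h2 : Nat.card (normalizer ((Q : Subgroup (Equiv.Perm (Fin 7))) : Set (Equiv.Perm (Fin 7)))) *
      (normalizer ((Q : Subgroup (Equiv.Perm (Fin 7))) : Set (Equiv.Perm (Fin 7)))).index = 5040 := by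
    rw [Subgroup.card_mul_index, hcard]
  have h3 : Nat.card (Sylow 5 (Equiv.Perm (Fin 7))) =
      (normalizer ((Q : Subgroup (Equiv.Perm (Fin 7))) : Set (Equiv.Perm (Fin 7)))).index := Q.card_eq_index_normalizer
  rw [h3]
  by_contra hodd
  rw [Nat.not_even_iff_odd] at hodd
  have h4 : Nat.Coprime (2 ^ 4) (normalizer ((Q : Subgroup (Equiv.Perm (Fin 7))) : Set (Equiv.Perm (Fin 7)))).index :=
    Nat.Coprime.pow_left 4 hodd.coprime_two_left
  have h5 : 2 ^ 4 ∣ Nat.card (normalizer ((Q : Subgroup (Equiv.Perm (Fin 7))) : Set (Equiv.Perm (Fin 7)))) :=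
    h4.dvd_of_dvd_mul_right (by rw [h2]; norm_num)
  have h6 := h5.trans h1
  revert h6
  norm_num

theorem exists_30888 : ∃ χ : IrrCharacter Spor.Fi23, charDegree (χ : Spor.Fi23 → ℂ) = 30888 := by
  have : Finite Spor.Fi23 := Nat.finite_of_card_ne_zero (by
    rw [NotCT.Orders.fi23 (K := Spor.Fi23) ⟨MulEquiv.refl _⟩]; norm_num)
  obtain ⟨R, hR⟩ := Cfsg.Agent.H870.IMFi23.exists_r3
  obtain ⟨d, hd, χ, hχ⟩ := RThree.exists_deg hR [30888] (by decide +kernel)
  rw [List.mem_singleton] at hd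
  exact ⟨χ, hχ.trans hd⟩

theorem im_three {S : Type u} [Group S] (h : Spor.IsoFi23 S) : IM (3 ^ 2) S := by
  obtain ⟨e⟩ := h
  obtain ⟨χ, hχ⟩ := exists_30888
  exact IM.of_equiv e ⟨χ, by rw [hχ]; decide⟩

theorem even_five {x : Spor.Fi23} (hx : orderOf x = 5) :
    Even (Nat.card (Sylow 5 (centralizer ({x} : Set Spor.Fi23)))) := by
  have : Finite Spor.Fi23 := Nat.finite_of_card_ne_zero (by
    rw [NotCT.Orders.fi23 (K := Spor.Fi23) ⟨MulEquiv.refl _⟩]; norm_num)
  have h5 : Fact (Nat.Prime 5) := ⟨by norm_num⟩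
  obtain ⟨f, hf, -⟩ := H870.IMFi23.exists_surj_elt hx
    (H838.Fi23.five_main (zpowers x) (by rw [Nat.card_zpowers, hx]))
  exact H710.PSq.even_of_surjective f hf even_five_perm

/-- **The row `Fi₂₃` of S4844.** -/
theorem sq_fi23 {S : Type u} [Group S] [Finite S] (h : Spor.IsoFi23 S) (_hs : IsSimpleGroup S) {p : ℕ}
    [hp : Fact p.Prime] (hp2 : p ≠ 2) (hd : p ^ 2 ∣ Nat.card S) : IM (p ^ 2) S ∨ H696.PSq.EvenC p S := by
  have hc := NotCT.Orders.fi23 h
  have hspor : IsSporadicGroup S := by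
    unfold IsSporadicGroup
    tauto
  have hd0 := hd
  rw [hc] at hd
  obtain ⟨hm, hd⟩ := H941.Sq.eq_of_sq hp.out hd ([3, 3, 3, 3, 3, 3, 3, 3, 3, 3, 3, 3, 3, 5, 5, 7, 11, 13, 17, 23] ++
    List.replicate 18 2) (by decide) (by decide)
  rw [List.mem_append, List.mem_replicate] at hm
  rcases hm with hm | ⟨-, hm⟩
  swap
  · exact absurd hm hp2
  have h35 : p = 3 ∨ p = 5 := by
    simp only [List.mem_cons, List.not_mem_nil, or_false] at hm
    rcases hm with rfl | rfl | rfl | rfl | rfl | rfl | rfl | rfl | rfl | rfl | rfl | rfl | rfl | rfl | rfl | rfl | rfl |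
      rfl | rfl | rfl <;> first | exact Or.inl rfl | exact Or.inr rfl | exact absurd hd (by decide)
  rcases h35 with rfl | rfl
  · exact Or.inl (im_three h)
  · right
    refine H710.PSq.evenC_spor hp2 hspor ?_ ?_
    · rw [hc]
      exact Cfsg.Agent.H870.IMFi23.fac (n := 2) (m := 163578818931720192) (by norm_num) (by norm_num) (by norm_num)
    · obtain ⟨e⟩ := h
      intro x hx
      have : Finite Spor.Fi23 := Finite.of_equiv _ e.toEquiv
      have h1 := H710.PSq.even_cent_of_equiv (p := 5) e.symm (even_five (x := e x) (by rw [MulEquiv.orderOf_eq, hx]))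
      rwa [e.symm_apply_apply] at h1

end Cfsg.Agent.H300.PSq.FiTwentyThree
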