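import Cfsg.Agent.LThreeFi22.Rows
import Cfsg.Agent.OrdDiv.Main
import Cfsg.Agent.SignalizersComponents.PConstrained
import Cfsg.Agent.S2546
import Cfsg.Agent.H33.IM

/-!
# The centralizer of an element of order three (class 3A) of `Fi₂₂` (helper300)

`im_cent` : `C(x)`, `x = ab` with `a`, `b` noncommuting transpositions, has a component `K` of `C(x)/O_{3'}(C(x))` with
`K / Z(K) ≅ U₄(3)`; the Steinberg character of degree `3⁶` gives a degree of `C(x)` divisible by `3⁶`.
-/

set_option autoImplicit false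
set_option maxRecDepth 100000

namespace Cfsg.Agent.H300.PSq.FiTwentyTwo

open Subgroup Cfsg Cfsg.Agent.H33 Cfsg.Agent.LThreeFi22 Cfsg.Agent.SignalizersComponents Cfsg.Agent.OrdDiv

universe u

section

variable {X : Type u} [Group X] [Finite X]

theorem coprime_three_of_not_dvd {n : ℕ} (h : ¬ 3 ∣ n) : Nat.Coprime (3 ^ 7) n :=
  Nat.Coprime.pow_left _ ((Nat.Prime.coprime_iff_not_dvd Nat.prime_three).2 h)

/-- `O_{3'}(H)` has order prime to 5 and 7 -/
theorem not_dvd_core {H : Type u} [Group H] [Finite H] (hcard : Nat.card H = 19595520)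
    (hcent : ∀ (r : ℕ) (y : H), r = 5 ∨ r = 7 → orderOf y = r → ¬ 9 ∣ Nat.card ↥(centralizer ({y} : Set H)))
    {r : ℕ} (hr57 : r = 5 ∨ r = 7) : ¬ r ∣ Nat.card ↥(pPrimeCore 3 H) := by
  intro hdvd
  have hr : r.Prime := by rcases hr57 with rfl | rfl <;> norm_num
  have : Fact r.Prime := ⟨hr⟩
  have hO := Lib.Cores.pPrimeCore_normal (G := H) 3
  obtain ⟨⟨y, hyO⟩, hy⟩ := exists_prime_orderOf_dvd_card' (G := ↥(pPrimeCore 3 H)) r hdvd
  rw [Subgroup.orderOf_mk] at hy
  have h1 := Comp.frattini hr (Comp.not_sq (by rw [hcard]) hr57) (pPrimeCore 3 H) hyO hy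
  rw [hcard] at h1
  have h2 : 3 ^ 7 ∣ Nat.card ↥(pPrimeCore 3 H) * (Nat.card ↥(centralizer ({y} : Set H)) * (r - 1)) :=
    dvd_trans (by norm_num) h1
  have h3 : 3 ^ 7 ∣ Nat.card ↥(centralizer ({y} : Set H)) * (r - 1) :=
    (Nat.Coprime.pow_left 7 (Lib.Cores.pPrimeCore_coprime (G := H) 3).symm).dvd_of_dvd_mul_left h2
  have h9 := hcent r y hr57 hy
  apply h9
  rcases hr57 with rfl | rfl
  · have h4 : 3 ^ 7 ∣ Nat.card ↥(centralizer ({y} : Set H)) := (Nat.Coprime.dvd_of_dvd_mul_right (by norm_num) h3)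
    exact dvd_trans (by norm_num) h4
  · have h4 : 3 ^ 6 * 3 ∣ (Nat.card ↥(centralizer ({y} : Set H)) * 2) * 3 := by
      have e1 : 3 ^ 6 * 3 = 3 ^ 7 := by norm_num
      have e2 : (Nat.card ↥(centralizer ({y} : Set H)) * 2) * 3 = Nat.card ↥(centralizer ({y} : Set H)) * (7 - 1) := by
        omega
      rw [e1, e2]
      exact h3
    have h5 := Nat.dvd_of_mul_dvd_mul_right (by norm_num) h4
    have h6 : 3 ^ 6 ∣ Nat.card ↥(centralizer ({y} : Set H)) := Nat.Coprime.dvd_of_dvd_mul_right (by norm_num) h5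
    exact dvd_trans (by norm_num) h6

/-- the fixed points of an element of order `r` on a normal 3-subgroup -/
theorem card_fix {r : ℕ} (hr57 : r = 5 ∨ r = 7) {y z : X} (hy : orderOf y = r)
    (h9 : ¬ 9 ∣ Nat.card ↥(centralizer ({y} : Set X))) (Q : Subgroup X) [Q.Normal] (hQ : IsPGroup 3 ↥Q)
    (hz : z ∈ Q) (hz1 : z ≠ 1) (hzc : z * y = y * z) : Nat.card ↥Q ≡ 3 [MOD r] := by
  have hr : r.Prime := by rcases hr57 with rfl | rfl <;> norm_num
  have : Fact r.Prime := ⟨hr⟩
  have h3 : Fact (Nat.Prime 3) := ⟨Nat.prime_three⟩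
  have h1 := Cfsg.Agent.LThreeFi22.fix_modEq (K := X) hr (y := y) (by rw [← hy, pow_orderOf_eq_one]) (S := (Q : Set X))
    (fun s hs => (inferInstance : Q.Normal).conj_mem s hs y)
  have h2 : {s | s ∈ (Q : Set X) ∧ y * s = s * y} = ((Q ⊓ centralizer ({y} : Set X) : Subgroup X) : Set X) := by
    ext s
    simp only [Set.mem_ofPred_eq, SetLike.mem_coe, mem_inf, mem_centralizer_singleton_iff]
    constructor
    · rintro ⟨h, h'⟩; exact ⟨h, h'.symm⟩
    · rintro ⟨h, h'⟩; exact ⟨h, h'.symm⟩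
  rw [h2] at h1
  have h4 : Nat.card ↥(Q ⊓ centralizer ({y} : Set X) : Subgroup X) = 3 := by
    obtain ⟨k, hk⟩ := IsPGroup.iff_card.1 (hQ.to_le (inf_le_left : Q ⊓ centralizer ({y} : Set X) ≤ Q))
    have h5 : k < 2 := by
      by_contra h
      push Not at h
      apply h9
      have h6 : Nat.card ↥(Q ⊓ centralizer ({y} : Set X) : Subgroup X) ∣ Nat.card ↥(centralizer ({y} : Set X)) :=
        card_dvd_of_le inf_le_right
      rw [hk] at h6
      exact (pow_dvd_pow 3 h).trans h6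
    have h7 : k ≠ 0 := by
      rintro rfl
      rw [pow_zero] at hk
      have h8 := Subgroup.card_eq_one.1 hk
      apply hz1
      have : z ∈ Q ⊓ centralizer ({y} : Set X) := mem_inf.2 ⟨hz, mem_centralizer_singleton_iff.2 hzc⟩
      rw [h8] at this
      exact mem_bot.1 this
    have : k = 1 := by omega
    rw [hk, this, pow_one]
  rw [show ((Q : Set X)).ncard = Nat.card ↥Q from rfl, show (((Q ⊓ centralizer ({y} : Set X) : Subgroup X) : Set X)).ncard
    = Nat.card ↥(Q ⊓ centralizer ({y} : Set X) : Subgroup X) from rfl, h4] at h1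
  exact h1

/-- `X = H / O_{3'}(H)` has a component -/
theorem exists_component {x : X} (hX : pPrimeCore 3 X = ⊥) (hcard : Nat.card X ∣ 19595520)
    (h7 : 3 ^ 7 ∣ Nat.card X) (hd5 : 5 ∣ Nat.card X) (hd7 : 7 ∣ Nat.card X)
    (hcent : ∀ (r : ℕ) (y : X), r = 5 ∨ r = 7 → orderOf y = r → ¬ 9 ∣ Nat.card ↥(centralizer ({y} : Set X)))
    (hx : orderOf x = 3) (hxc : ∀ y : X, x * y = y * x) : ∃ K : Subgroup X, IsComponent K := by
  have h3 : Fact (Nat.Prime 3) := ⟨Nat.prime_three⟩
  have h5 : Fact (Nat.Prime 5) := ⟨by norm_num⟩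
  have h7' : Fact (Nat.Prime 7) := ⟨by norm_num⟩
  by_contra hno
  push Not at hno
  have hlay : layer X = ⊥ := by
    rw [eq_bot_iff]
    unfold layer
    exact sSup_le fun K hK => absurd hK (hno K)
  have hle := (PConstrained.centralizer_pCore_le_iff_layer_eq_bot 3 hX).2 hlay
  have hQn := Cfsg.Agent.Lib.Cores.pCore_normal (G := X) 3
  have hQ := Cfsg.Agent.Lib.Cores.pCore_isPGroup (G := X) 3
  have hxC : x ∈ centralizer ((pCore 3 X : Subgroup X) : Set X) := by
    rw [mem_centralizer_iff]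
    intro y _
    exact (hxc y).symm
  have hxQ : x ∈ pCore 3 X := hle hxC
  have hx1 : x ≠ 1 := by
    rintro rfl
    rw [orderOf_one] at hx
    norm_num at hx
  obtain ⟨y, hy⟩ := exists_prime_orderOf_dvd_card' (G := X) 5 hd5
  obtain ⟨z, hz⟩ := exists_prime_orderOf_dvd_card' (G := X) 7 hd7
  have e5 := card_fix (r := 5) (Or.inl rfl) hy (hcent 5 y (Or.inl rfl) hy) (pCore 3 X) hQ hxQ hx1 (hxc y)
  have e7 := card_fix (r := 7) (Or.inr rfl) hz (hcent 7 z (Or.inr rfl) hz) (pCore 3 X) hQ hxQ hx1 (hxc z)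
  obtain ⟨k, hk⟩ := IsPGroup.iff_card.1 hQ
  have hk7 : k ≤ 7 := by
    have h8 : 3 ^ k ∣ 19595520 := by
      rw [← hk]
      exact (card_subgroup_dvd_card _).trans hcard
    by_contra h
    push Not at h
    have h9 : 3 ^ 8 ∣ 19595520 := (pow_dvd_pow 3 h).trans h8
    revert h9
    norm_num
  rw [hk] at e5 e7
  have hk1 : k = 1 := by
    unfold Nat.ModEq at e5 e7
    interval_cases k <;> revert e5 e7 <;> norm_num
  rw [hk1, pow_one] at hk
  have hz : zpowers x = pCore 3 X := by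
    refine Subgroup.eq_of_le_of_card_ge (zpowers_le.2 hxQ) ?_
    rw [hk, Nat.card_zpowers, hx]
  have htop : (⊤ : Subgroup X) ≤ pCore 3 X := by
    refine le_trans ?_ hle
    intro g _
    rw [mem_centralizer_iff]
    intro q hq
    rw [← hz] at hq
    obtain ⟨n, rfl⟩ := hq
    exact (Commute.zpow_left (hxc g) n).eq
  have h9 := card_dvd_of_le htop
  rw [Subgroup.card_top, hk] at h9
  have h10 := h7.trans h9
  revert h10
  norm_num

/-- the components of `X = H / O_{3'}(H)` -/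
theorem im_of_component (hS : ∀ (G : Type u) [Group G] [Finite G] [IsSimpleGroup G], IsKnownSimple' G)
    (T : OrderTable.{u}) (hX : pPrimeCore 3 X = ⊥) (hcard : Nat.card X ∣ 19595520) (h7 : 3 ^ 7 ∣ Nat.card X)
    (hcent : ∀ (r : ℕ) (y : X), r = 5 ∨ r = 7 → orderOf y = r → ¬ 9 ∣ Nat.card ↥(centralizer ({y} : Set X)))
    {K : Subgroup X} (hK : IsComponent K) : IM (3 ^ 6) X := by
  have h3 : Fact (Nat.Prime 3) := ⟨Nat.prime_three⟩
  have h5 : Fact (Nat.Prime 5) := ⟨by norm_num⟩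
  obtain ⟨hZ, h81⟩ := Comp.card_comp hX hcard h7 hcent hK
  have hKn : K.Normal := Comp.comp_normal hX hcard hK
  have hs : IsSimpleGroup (↥K ⧸ center ↥K) := hK.2.2
  have hna : ¬ ∀ a b : ↥K ⧸ center ↥K, a * b = b * a := by
    intro hc
    apply Components.quasisimple_not_isSolvable hK.2
    have h1 : Group.IsSolvable (↥K ⧸ center ↥K) := Group.isSolvable_of_comm hc
    have h2 : Group.IsSolvable ↥(center ↥K) :=
      Group.isSolvable_of_comm (fun a b => Subtype.ext (mem_center_iff.1 b.2 a))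
    exact (Group.isSolvable_iff_subgroup_quotient (center ↥K)).2 ⟨h2, h1⟩
  have hd : Nat.card (↥K ⧸ center ↥K) ∣ 19595520 :=
    (Subgroup.card_quotient_dvd_card _).trans (K.card_subgroup_dvd_card.trans hcard)
  have hk := hS (↥K ⧸ center ↥K)
  have h6 : Nat.card ↥K = Nat.card (↥K ⧸ center ↥K) * Nat.card ↥(center ↥K) :=
    Subgroup.card_eq_card_quotient_mul_card_subgroup _
  -- `5` divides the order
  have hd5 : 5 ∣ Nat.card (↥K ⧸ center ↥K) := by
    by_contra hcon
    obtain ⟨g, hg, -⟩ := exists_real_filter T hk hna (l := [(2, 8), (3, 7), (5, 1), (7, 1)]) (by decide +kernel) hd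
      (fun n => n % 81 == 0 && !(n % 5 == 0)) (by
        simp only [Bool.and_eq_true, beq_iff_eq, Bool.not_eq_true', beq_eq_false_iff_ne]
        exact ⟨Nat.mod_eq_zero_of_dvd h81, fun h => hcon (Nat.dvd_of_mod_eq_zero h)⟩)
    rw [show (cands [(2, 8), (3, 7), (5, 1), (7, 1)] 19595520).filter
      (fun g => ordN g % 81 == 0 && !(ordN g % 5 == 0)) = [] from by decide +kernel] at hg
    simp at hg
  -- Frattini
  have hd5K : 5 ∣ Nat.card ↥K := by
    rw [h6]
    exact Dvd.dvd.mul_right hd5 _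
  obtain ⟨⟨y, hyK⟩, hy⟩ := exists_prime_orderOf_dvd_card' (G := ↥K) 5 hd5K
  rw [Subgroup.orderOf_mk] at hy
  have h9 := hcent 5 y (Or.inl rfl) hy
  have hF := Comp.frattini (by norm_num) (Comp.not_sq hcard (Or.inl rfl)) K hyK hy
  have hZc : Nat.card ↥(center ↥K) ∣ 3 := by
    obtain ⟨k, hk⟩ := IsPGroup.iff_card.1 hZ
    have h1 : Nat.card ↥(center ↥K) ∣ Nat.card ↥(centralizer ({y} : Set X)) := by
      have h2 : Nat.card ↥(center ↥K) = Nat.card ↥((center ↥K).map K.subtype) :=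
        (card_map_of_injective K.subtype_injective).symm
      rw [h2]
      apply card_dvd_of_le
      rintro _ ⟨c, hc, rfl⟩
      rw [mem_centralizer_singleton_iff]
      exact congrArg Subtype.val (mem_center_iff.1 hc ⟨y, hyK⟩).symm
    have hk1 : k ≤ 1 := by
      by_contra h
      push Not at h
      apply h9
      rw [hk] at h1
      exact (pow_dvd_pow 3 h).trans h1
    rw [hk]
    exact (pow_dvd_pow 3 hk1).trans (by norm_num)
  have h36 : 3 ^ 6 ∣ Nat.card ↥K := by
    have h1 := h7.trans hF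
    have h2 : 3 ^ 7 ∣ (Nat.card ↥K * Nat.card ↥(centralizer ({y} : Set X))) * 4 := by
      have e1 : (Nat.card ↥K * Nat.card ↥(centralizer ({y} : Set X))) * 4 =
        Nat.card ↥K * (Nat.card ↥(centralizer ({y} : Set X)) * (5 - 1)) := by ring
      rw [e1]
      exact h1
    have h3 : 3 ^ 7 ∣ Nat.card ↥K * Nat.card ↥(centralizer ({y} : Set X)) :=
      Nat.Coprime.dvd_of_dvd_mul_right (by norm_num) h2
    have hKne : Nat.card ↥K ≠ 0 := Nat.card_pos.ne'
    have hCne : Nat.card ↥(centralizer ({y} : Set X)) ≠ 0 := Nat.card_pos.ne'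
    rw [Nat.Prime.pow_dvd_iff_le_factorization Nat.prime_three (mul_ne_zero hKne hCne),
      Nat.factorization_mul hKne hCne] at h3
    have h9' : ¬ 3 ^ 2 ∣ Nat.card ↥(centralizer ({y} : Set X)) := h9
    rw [Nat.Prime.pow_dvd_iff_le_factorization Nat.prime_three hCne] at h9'
    rw [Nat.Prime.pow_dvd_iff_le_factorization Nat.prime_three hKne]
    simp only [Finsupp.coe_add, Pi.add_apply] at h3
    omega
  have h35 : 243 ∣ Nat.card (↥K ⧸ center ↥K) := by
    have h8 : 3 ^ 6 ∣ Nat.card (↥K ⧸ center ↥K) * 3 := by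
      rw [h6] at h36
      exact h36.trans (Nat.mul_dvd_mul dvd_rfl hZc)
    exact Nat.dvd_of_mul_dvd_mul_right (k := 3) (by norm_num) (by
      rw [show 243 * 3 = 3 ^ 6 from by norm_num]
      exact h8)
  -- `U₄(3)`
  obtain ⟨g, h1, h2, h3'⟩ := exists_good T hk hna (l := [(2, 8), (3, 7), (5, 1), (7, 1)]) (by decide +kernel) hd
  have hg : g ∈ (cands [(2, 8), (3, 7), (5, 1), (7, 1)] 19595520).filter (fun g => ordN g % 243 == 0) := by
    refine List.mem_filter.2 ⟨h1, ?_⟩
    rw [← h3']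
    simpa using Nat.mod_eq_zero_of_dvd h35
  rw [show (cands [(2, 8), (3, 7), (5, 1), (7, 1)] 19595520).filter (fun g => ordN g % 243 == 0) = [.psu 4 3] from by
    decide +kernel] at hg
  rw [List.mem_singleton] at hg
  subst hg
  obtain ⟨F, _, _, hF', ⟨e⟩⟩ := h2
  have hch : CharP F 3 := charP_of_card_eq_prime_pow (f := 2) hF'
  obtain ⟨χ, hχ, hP⟩ := Cfsg.Agent.S2546.result (F := F) 3 4 3 (by norm_num) hF'
  have hcardU : Nat.card (PSU 4 F 3) = 3265920 := by
    rw [← Nat.card_congr e.toEquiv, h3']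
    decide +kernel
  have hfin : Finite (PSU 4 F 3) := Nat.finite_of_card_ne_zero (by rw [hcardU]; norm_num)
  obtain ⟨P⟩ : Nonempty (Sylow 3 (PSU 4 F 3)) := inferInstance
  have hPc : Nat.card P = 3 ^ 6 := by
    rw [P.card_eq_multiplicity, hcardU]
    have : (3265920 : ℕ).factorization 3 = 6 := by
      rw [show (3265920 : ℕ) = 3 ^ 6 * 4480 from by norm_num, Nat.factorization_mul (by norm_num) (by norm_num),
        Nat.factorization_pow]
      simp [Nat.prime_three.factorization, Nat.factorization_eq_zero_of_not_dvd (n := 4480) (p := 3) (by norm_num)]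
    rw [this]
  have hU : IM (3 ^ 6) (PSU 4 F 3) := IM.of_apply_one hχ (n := 3 ^ 6) (by rw [(hP P).1, hPc]) dvd_rfl
  exact IM.of_normal K (IM.of_quotient (center ↥K) (IM.of_equiv e hU))

end

/-- **the centralizer of the product of two noncommuting transpositions** -/
theorem im_cent {K : Type u} [Group K] {T : Set K} (C : Ctx K T) {a b : K} (ha : a ∈ T) (hb : b ∈ T)
    (hab : a * b ≠ b * a) (hS : ∀ (G : Type u) [Group G] [Finite G] [IsSimpleGroup G], IsKnownSimple' G)
    (tab : OrderTable.{u}) : orderOf (a * b) = 3 ∧ Nat.card ↥(centralizer ({a * b} : Set K)) = 19595520 ∧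
      IM (3 ^ 6) ↥(centralizer ({a * b} : Set K)) := by
  have hfin := C.finite
  have h3 : Fact (Nat.Prime 3) := ⟨Nat.prime_three⟩
  have hx : orderOf (a * b) = 3 := orderOf_eq_prime (C.cube_ab ha hb hab) (C.ne_ab ha hab)
  have hcard := C.card_three ha hb hab
  refine ⟨hx, hcard, ?_⟩
  set x := a * b with hxdef
  have hcent : ∀ (r : ℕ) (y : ↥(centralizer ({x} : Set K))), r = 5 ∨ r = 7 → orderOf y = r →
      ¬ 9 ∣ Nat.card ↥(centralizer ({y} : Set ↥(centralizer ({x} : Set K)))) := by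
    intro r y hr hy h9
    have h1 : Nat.card ↥(centralizer ({y} : Set ↥(centralizer ({x} : Set K)))) ∣
        Nat.card ↥(centralizer ({(y : K)} : Set K)) := by
      have h2 : Nat.card ↥(centralizer ({y} : Set ↥(centralizer ({x} : Set K)))) =
          Nat.card ↥((centralizer ({y} : Set ↥(centralizer ({x} : Set K)))).map
            (centralizer ({x} : Set K)).subtype) := (card_map_of_injective (Subgroup.subtype_injective _)).symm
      rw [h2]
      apply card_dvd_of_le
      rintro _ ⟨g, hg, rfl⟩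
      rw [mem_centralizer_singleton_iff]
      rw [SetLike.mem_coe, mem_centralizer_singleton_iff] at hg
      exact congrArg Subtype.val hg
    have hy1 : (y : K) ≠ 1 := by
      intro h
      have : y = 1 := Subtype.ext h
      rw [this, orderOf_one] at hy
      rcases hr with rfl | rfl <;> norm_num at hy
    have hyr : (y : K) ^ r = 1 := by
      have : y ^ r = 1 := by rw [← hy, pow_orderOf_eq_one]
      exact congrArg Subtype.val this
    rcases hr with rfl | rfl
    · exact C.nine_five hyr hy1 (h9.trans h1)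
    · exact C.nine_seven hyr hy1 (h9.trans h1)
  -- the quotient
  have hO := Lib.Cores.pPrimeCore_normal (G := ↥(centralizer ({x} : Set K))) 3
  have hX : pPrimeCore 3 (↥(centralizer ({x} : Set K)) ⧸ pPrimeCore 3 ↥(centralizer ({x} : Set K))) = ⊥ :=
    Lib.Cores.pPrimeCore_quotient_pPrimeCore 3
  have h1 : Nat.card ↥(centralizer ({x} : Set K)) =
      Nat.card (↥(centralizer ({x} : Set K)) ⧸ pPrimeCore 3 ↥(centralizer ({x} : Set K))) *
        Nat.card ↥(pPrimeCore 3 ↥(centralizer ({x} : Set K))) :=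
    Subgroup.card_eq_card_quotient_mul_card_subgroup _
  have h2 : Nat.card (↥(centralizer ({x} : Set K)) ⧸ pPrimeCore 3 ↥(centralizer ({x} : Set K))) ∣ 19595520 := by
    rw [← hcard, h1]
    exact dvd_mul_right _ _
  have h7 : 3 ^ 7 ∣ Nat.card (↥(centralizer ({x} : Set K)) ⧸ pPrimeCore 3 ↥(centralizer ({x} : Set K))) := by
    have h4 : (3 ^ 7).Coprime (Nat.card ↥(pPrimeCore 3 ↥(centralizer ({x} : Set K)))) :=
      Nat.Coprime.pow_left _ (Lib.Cores.pPrimeCore_coprime (G := ↥(centralizer ({x} : Set K))) 3).symm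
    refine h4.dvd_of_dvd_mul_right ?_
    rw [← h1, hcard]
    norm_num
  have hdq : ∀ r : ℕ, r = 5 ∨ r = 7 →
      r ∣ Nat.card (↥(centralizer ({x} : Set K)) ⧸ pPrimeCore 3 ↥(centralizer ({x} : Set K))) := by
    intro r hr
    have hrp : r.Prime := by rcases hr with rfl | rfl <;> norm_num
    have h5 : r ∣ Nat.card (↥(centralizer ({x} : Set K)) ⧸ pPrimeCore 3 ↥(centralizer ({x} : Set K))) *
        Nat.card ↥(pPrimeCore 3 ↥(centralizer ({x} : Set K))) := by
      rw [← h1, hcard]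
      rcases hr with rfl | rfl <;> norm_num
    rcases hrp.dvd_mul.1 h5 with h6 | h6
    · exact h6
    · exact absurd h6 (not_dvd_core hcard hcent hr)
  have hcentX : ∀ (r : ℕ) (y : ↥(centralizer ({x} : Set K)) ⧸ pPrimeCore 3 ↥(centralizer ({x} : Set K))),
      r = 5 ∨ r = 7 → orderOf y = r → ¬ 9 ∣ Nat.card ↥(centralizer ({y} : Set _)) := by
    intro r y hr57 hy
    have hr : r.Prime := by rcases hr57 with rfl | rfl <;> norm_num
    exact Comp.cent_quot hr (Comp.not_sq (by rw [hcard]) hr57) (fun s hs => hcent r s hr57 hs) _ y hy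
  -- the image of `x`
  have hxC : x ∈ centralizer ({x} : Set K) := mem_centralizer_singleton_iff.2 rfl
  have hxx : orderOf (QuotientGroup.mk' (pPrimeCore 3 ↥(centralizer ({x} : Set K))) ⟨x, hxC⟩) = 3 := by
    apply orderOf_eq_prime
    · rw [← map_pow]
      have : (⟨x, hxC⟩ : ↥(centralizer ({x} : Set K))) ^ 3 = 1 := Subtype.ext (C.cube_ab ha hb hab)
      rw [this, map_one]
    · intro h
      have h4 : (⟨x, hxC⟩ : ↥(centralizer ({x} : Set K))) ∈ pPrimeCore 3 ↥(centralizer ({x} : Set K)) :=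
        (QuotientGroup.eq_one_iff _).1 h
      have h5 : orderOf (⟨x, hxC⟩ : ↥(centralizer ({x} : Set K))) = 3 := by rw [orderOf_mk]; exact hx
      have h6 : 3 ∣ Nat.card ↥(pPrimeCore 3 ↥(centralizer ({x} : Set K))) := by
        have h9 := orderOf_dvd_natCard (⟨⟨x, hxC⟩, h4⟩ : ↥(pPrimeCore 3 ↥(centralizer ({x} : Set K))))
        rwa [orderOf_mk, h5] at h9
      have h8 := Lib.Cores.pPrimeCore_coprime (G := ↥(centralizer ({x} : Set K))) 3
      exact (Nat.Prime.coprime_iff_not_dvd Nat.prime_three).1 h8.symm h6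
  have hxcomm : ∀ y : ↥(centralizer ({x} : Set K)) ⧸ pPrimeCore 3 ↥(centralizer ({x} : Set K)),
      (QuotientGroup.mk' (pPrimeCore 3 ↥(centralizer ({x} : Set K))) ⟨x, hxC⟩) * y =
        y * (QuotientGroup.mk' (pPrimeCore 3 ↥(centralizer ({x} : Set K))) ⟨x, hxC⟩) := by
    intro y
    obtain ⟨g, rfl⟩ := QuotientGroup.mk'_surjective _ y
    rw [← map_mul, ← map_mul]
    congr 1
    exact Subtype.ext (mem_centralizer_singleton_iff.1 g.2).symm
  obtain ⟨L, hL⟩ := exists_component hX h2 h7 (hdq 5 (Or.inl rfl)) (hdq 7 (Or.inr rfl)) hcentX hxx hxcomm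
  exact IM.of_quotient _ (im_of_component hS tab hX h2 h7 hcentX hL)

end Cfsg.Agent.H300.PSq.FiTwentyTwo
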