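import Cfsg.Agent.H300.PSq.FiTwentyTwo
import Cfsg.Agent.S0000
import Cfsg.Agent.OrdDiv.Table
import Cfsg.Agent.H710.PSq.Local
import Cfsg.Agent.H729.FiTTRank
import Cfsg.Agent.H941.Sq.Easy
import Cfsg.Agent.H696.PSq.DefsE
import Cfsg.Agent.NotCT.Orders

/-!
# S4844: the row `Fi₂₂` (helper300)

* `p = 5` : the degree `13650`;
* `p = 3` : a degree divisible by `3⁸` from the centralizer `3 × U₄(3) : 2` of an element of class 3A.
-/

set_option autoImplicit false

namespace Cfsg.Agent.H300.PSq.FiTwentyTwo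

open Subgroup Cfsg Cfsg.Agent.H33 Cfsg.Agent.LThreeFi22

universe u

/-- A degree of `Fi₂₂` divisible by `3⁸`. -/
theorem im_three {K : Type u} [Group K] (h : Spor.IsoFi22 K) : IM (3 ^ 8) K := by
  obtain ⟨e⟩ := h
  have C := LThreeFi22.Inst.ctx e
  have hfin := C.finite
  have h3 : Fact (Nat.Prime 3) := ⟨Nat.prime_three⟩
  obtain ⟨a, ha, b, hb, -, -, hab, -⟩ := C.mupos
  obtain ⟨hx, hcard, him⟩ := im_cent C ha hb hab (fun _ _ _ _ => Cfsg.Agent.S0000.result) OrdDiv.table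
  refine H710.PSq.im_pow_of_cent (p := 3) (a * b) hx him ?_ ?_
  · rw [hcard]
    rw [show (19595520 : ℕ) = 3 ^ 7 * 8960 from by norm_num, Nat.factorization_mul (by norm_num) (by norm_num),
      Nat.factorization_pow]
    simp [Nat.prime_three.factorization, Nat.factorization_eq_zero_of_not_dvd (n := 8960) (p := 3) (by norm_num)]
  · rw [C.card]
    norm_num

/-- **The row `Fi₂₂` of S4844.** -/
theorem sq_fi22 {S : Type u} [Group S] [Finite S] (h : Spor.IsoFi22 S) (_hs : IsSimpleGroup S) {p : ℕ}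
    [hp : Fact p.Prime] (hp2 : p ≠ 2) (hd : p ^ 2 ∣ Nat.card S) : IM (p ^ 2) S ∨ H696.PSq.EvenC p S := by
  left
  have hc := NotCT.Orders.fi22 h
  rw [hc] at hd
  obtain ⟨hm, hd⟩ := H941.Sq.eq_of_sq hp.out hd ([3, 3, 3, 3, 3, 3, 3, 3, 3, 5, 5, 7, 11, 13] ++
    List.replicate 17 2) (by decide) (by decide)
  rw [List.mem_append, List.mem_replicate] at hm
  rcases hm with hm | ⟨-, hm⟩
  swap
  · exact absurd hm hp2
  have h35 : p = 3 ∨ p = 5 := by
    simp only [List.mem_cons, List.not_mem_nil, or_false] at hm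
    rcases hm with rfl | rfl | rfl | rfl | rfl | rfl | rfl | rfl | rfl | rfl | rfl | rfl | rfl | rfl <;>
      first | exact Or.inl rfl | exact Or.inr rfl | exact absurd hd (by decide)
  rcases h35 with rfl | rfl
  · obtain ⟨χ, hχ⟩ := im_three h
    exact ⟨χ, dvd_trans (by norm_num) hχ⟩
  · exact H941.Sq.im_of_hasDZ (H729.FiTTRank.hasDZ_five h) (by rw [hc]; norm_num)

end Cfsg.Agent.H300.PSq.FiTwentyTwo
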